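import Cfsg.Agent.Ree.PSLTori
import Cfsg.Agent.ClassicalGeometry.AutPSL.Main
import Cfsg.Agent.H946.ExcNum_m3
import Cfsg.Agent.FastGrp
import Cfsg.Agent.Prune
set_option linter.all false
prune_inst 0x7f00000000000000000000000000000000000000000000000000000000000000000000000000000000000000000000000000000000000000000000000000000000000000000000000000000000000000003fffffffffffffffffffffffffffbeffbdffffffff
open scoped Cfsg.Agent.FastGrp

/-!
# `SL₂` of a finite field: traces (helper118, S3938 O5)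

* `exists_conj` : elements of `SL₂(F)` with the same trace `τ`, `τ² ≠ 4`, are conjugate;
* `macbeath` : every element of trace `γ`, `γ² ≠ 4`, is a product of two elements of trace `α`;
* `eq_one_of_trace` : a field automorphism fixing the trace of an element of order `r ^ k`, `r` a primitive prime
  divisor of `p ^ (6 a) - 1`, `|F| = p ^ (3 a)`, is trivial;
* `pow_of_trace` : `pr M ^ p = 1` if `(tr M) ^ 2 = 4`.
-/

set_option autoImplicit false

namespace Cfsg.Agent.H118.O8S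

open Matrix
open scoped MatrixGroups
open Cfsg.Agent.ClassicalGeometry.SplitTorus (mul00 mul01 mul10 mul11 inv00 inv01 inv10 inv11 det_eq ext2)
open Cfsg.Agent.Ree.PSLTori (comp tr comp00 comp01 comp10 comp11 tr_mul_comm tr_conj exists_repr)
open Cfsg.Agent.ClassicalGeometry.AutPSL.Root (pr)

section

variable {F : Type*} [Field F] [Fintype F]

theorem exists_sqrt_of_two (h2 : (2 : F) = 0) (a : F) : ∃ b : F, b ^ 2 = a := by
  have : CharP F 2 := CharTwo.of_one_ne_zero_of_two_eq_zero one_ne_zero h2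
  obtain ⟨b, hb⟩ := FiniteField.isSquare_of_char_two (ringChar.eq F 2) a
  exact ⟨b, by rw [hb, pow_two]⟩

theorem exists_value (γ δ : F) (hγ : γ ^ 2 ≠ 4) : ∃ x z : F, x ^ 2 + γ * x * z + z ^ 2 = δ := by
  by_cases h2 : (2 : F) = 0
  · obtain ⟨x, hx⟩ := exists_sqrt_of_two h2 δ
    exact ⟨x, 0, by rw [hx]; ring⟩
  · have hodd : Fintype.card F % 2 = 1 := by
      have := (Cfsg.Agent.ClassicalGeometry.PSLTorus.two_ne_zero_iff_odd F).1 h2
      exact Nat.odd_iff.1 this
    have hD : (4 - γ ^ 2 : F) ≠ 0 := sub_ne_zero.2 (Ne.symm hγ)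
    obtain ⟨a, e, he⟩ := FiniteField.exists_root_sum_quadratic (R := F)
      (f := Polynomial.C (1 : F) * Polynomial.X ^ 2 + Polynomial.C 0 * Polynomial.X + Polynomial.C 0)
      (g := Polynomial.C (4 - γ ^ 2) * Polynomial.X ^ 2 + Polynomial.C 0 * Polynomial.X +
        Polynomial.C (-(4 * δ)))
      (Polynomial.degree_quadratic one_ne_zero) (Polynomial.degree_quadratic hD) hodd
    simp only [Polynomial.eval_add, Polynomial.eval_mul, Polynomial.eval_C, Polynomial.eval_pow,
      Polynomial.eval_X] at he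
    have h4 : (4 : F) ≠ 0 := by
      have : (4 : F) = 2 * 2 := by norm_num
      rw [this]
      exact mul_ne_zero h2 h2
    refine ⟨(a - γ * e) / 2, e, ?_⟩
    field_simp
    linear_combination he

theorem exists_repr' (b c d : F) (hD : d ^ 2 + 4 * b * c ≠ 0) : ∃ x y : F, c * x ^ 2 + d * x * y - b * y ^ 2 = 1 := by
  by_cases h2 : (2 : F) = 0
  · have h4 : (4 : F) = 0 := by
      have : (4 : F) = 2 * 2 := by norm_num
      rw [this, h2, zero_mul]
    have hd : d ≠ 0 := by
      rintro rfl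
      apply hD
      rw [h4]; ring
    by_cases hc : c = 0
    · refine ⟨(1 + b) / d, 1, ?_⟩
      rw [hc]
      field_simp
      ring
    · obtain ⟨x, hx⟩ := exists_sqrt_of_two h2 c⁻¹
      refine ⟨x, 0, ?_⟩
      rw [hx, mul_inv_cancel₀ hc]; ring
  · exact exists_repr h2 b c d hD

/-- Every element of `SL₂(F)` of trace `τ`, `τ² ≠ 4`, is conjugate to the companion matrix. -/
theorem exists_conj_comp (g : SL(2, F)) (hτ : tr g ^ 2 ≠ 4) : ∃ P : SL(2, F), g * P = P * comp (tr g) := by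
  have hdet := det_eq g
  obtain ⟨x, y, hxy⟩ := exists_repr' (g 0 1) (g 1 0) (g 1 1 - g 0 0) (by
    intro h
    apply hτ
    simp only [tr]
    linear_combination h + 4 * hdet)
  have hP : (!![x, g 0 0 * x + g 0 1 * y; y, g 1 0 * x + g 1 1 * y] :
      Matrix (Fin 2) (Fin 2) F).det = 1 := by
    rw [det_fin_two_of]
    linear_combination hxy
  set P : SL(2, F) := ⟨!![x, g 0 0 * x + g 0 1 * y; y, g 1 0 * x + g 1 1 * y], hP⟩ with hPdef
  have P00 : P 0 0 = x := rfl
  have P01 : P 0 1 = g 0 0 * x + g 0 1 * y := rfl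
  have P10 : P 1 0 = y := rfl
  have P11 : P 1 1 = g 1 0 * x + g 1 1 * y := rfl
  refine ⟨P, ?_⟩
  · apply ext2
    · rw [mul00, mul00, P00, P01, P10]; simp
    · rw [mul01, mul01, P00, P01, P11]; simp only [tr, comp01, comp11]; linear_combination (-x) * hdet
    · rw [mul10, mul10, P00, P10, P11]; simp
    · rw [mul11, mul11, P01, P10, P11]; simp only [tr, comp01, comp11]; linear_combination (-y) * hdet

/-- **Elements with the same trace are conjugate.** -/
theorem exists_conj (g h : SL(2, F)) (hτ : tr g ^ 2 ≠ 4) (hgh : tr g = tr h) : IsConj g h := by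
  obtain ⟨P, hP⟩ := exists_conj_comp g hτ
  obtain ⟨Q, hQ⟩ := exists_conj_comp h (hgh ▸ hτ)
  refine isConj_iff.2 ⟨Q * P⁻¹, ?_⟩
  have h1 : P⁻¹ * g * P = comp (tr g) := by rw [mul_assoc, hP, inv_mul_cancel_left]
  have h3 : Q * comp (tr h) * Q⁻¹ = h := by rw [← hQ, mul_inv_cancel_right]
  calc Q * P⁻¹ * g * (Q * P⁻¹)⁻¹ = Q * (P⁻¹ * g * P) * Q⁻¹ := by group
    _ = h := by rw [h1, hgh, h3]

theorem macbeath_comp (γ α : F) (hγ : γ ^ 2 ≠ 4) : ∃ N : SL(2, F), tr N = α ∧ tr (comp γ * N) = α := by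
  have hD : (4 - γ ^ 2 : F) ≠ 0 := sub_ne_zero.2 (Ne.symm hγ)
  set u : F := (2 * α - γ * (γ * α - α)) / (4 - γ ^ 2) with hu
  set v : F := (γ * α - 2 * α) / (4 - γ ^ 2) with hv
  have hu' : (4 - γ ^ 2) * u = 2 * α - γ * (γ * α - α) := by rw [hu]; field_simp
  have hv' : (4 - γ ^ 2) * v = γ * α - 2 * α := by rw [hv]; field_simp
  have e1 : 2 * u + γ * v = α := by
    apply mul_left_cancel₀ hD
    linear_combination 2 * hu' + γ * hv'
  have e2 : γ * u + 2 * v = γ * α - α := by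
    apply mul_left_cancel₀ hD
    linear_combination γ * hu' + 2 * hv'
  obtain ⟨x', z', h⟩ := exists_value γ (-(u ^ 2 + γ * u * v + v ^ 2 - α * u + (α - γ * α) * v + 1)) hγ
  set x : F := x' + u with hx
  set z : F := z' + v with hz
  have key : x ^ 2 + γ * x * z + z ^ 2 - α * x + (α - γ * α) * z + 1 = 0 := by
    rw [hx, hz]
    linear_combination h + x' * e1 + z' * e2
  have hdet : (!![x, α + z - γ * (α - x); z, α - x] : Matrix (Fin 2) (Fin 2) F).det = 1 := by
    rw [det_fin_two_of]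
    linear_combination -key
  set N : SL(2, F) := ⟨!![x, α + z - γ * (α - x); z, α - x], hdet⟩ with hN
  have N00 : N 0 0 = x := rfl
  have N01 : N 0 1 = α + z - γ * (α - x) := rfl
  have N10 : N 1 0 = z := rfl
  have N11 : N 1 1 = α - x := rfl
  refine ⟨N, ?_, ?_⟩
  · rw [tr, N00, N11]
    ring
  · rw [tr, mul00, mul11, N00, N01, N10, N11, comp00, comp01, comp10, comp11]
    ring

omit [Fintype F] in
theorem tr_inv (g : SL(2, F)) : tr g⁻¹ = tr g := by
  simp only [tr, inv00, inv11]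
  ring

/-- **Every element of trace `≠ ±2` is a product of two elements of a given trace.** -/
theorem macbeath (X : SL(2, F)) (α : F) (hX : tr X ^ 2 ≠ 4) :
    ∃ A B : SL(2, F), A * B = X ∧ tr A = α ∧ tr B = α := by
  obtain ⟨P, hP⟩ := exists_conj_comp X hX
  obtain ⟨N, hN1, hN2⟩ := macbeath_comp (tr X) α hX
  have hX' : X = P * comp (tr X) * P⁻¹ := by rw [← hP, mul_inv_cancel_right]
  refine ⟨P * N⁻¹ * P⁻¹, P * (N * comp (tr X)) * P⁻¹, ?_, ?_, ?_⟩
  · conv_rhs => rw [hX']
    group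
  · rw [tr_conj, tr_inv, hN1]
  · rw [tr_conj, tr_mul_comm, hN2]

end

section power

variable {F : Type*} [Field F]

/-- Cayley-Hamilton -/
theorem sq_eq (M : SL(2, F)) : (M : Matrix (Fin 2) (Fin 2) F) * M = tr M • (M : Matrix (Fin 2) (Fin 2) F) - 1 := by
  have hdet := det_eq M
  ext i j
  fin_cases i <;> fin_cases j <;>
    simp only [tr, Matrix.mul_apply, Fin.sum_univ_two, Matrix.sub_apply, Matrix.smul_apply, smul_eq_mul,
      Fin.zero_eta, Fin.isValue, Fin.mk_one, one_apply_eq, ne_eq, zero_ne_one, one_ne_zero, not_false_eq_true,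
      one_apply_ne, sub_zero] <;> first | linear_combination -hdet | ring

theorem exists_coeff (M : SL(2, F)) {L : Type*} [Field L] [Algebra F L] {ζ : L}
    (hζ : ζ ^ 2 = algebraMap F L (tr M) * ζ - 1) (m : ℕ) :
    ∃ u w : F, ((M : Matrix (Fin 2) (Fin 2) F)) ^ m = u • (M : Matrix (Fin 2) (Fin 2) F) + w • 1 ∧
      ζ ^ m = algebraMap F L u * ζ + algebraMap F L w := by
  induction m with
  | zero => exact ⟨0, 1, by simp, by simp⟩
  | succ m ih =>
    obtain ⟨u, w, h1, h2⟩ := ih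
    refine ⟨tr M * u + w, -u, ?_, ?_⟩
    · rw [pow_succ, h1, add_mul, smul_mul_assoc, smul_mul_assoc, one_mul, sq_eq]
      module
    · rw [pow_succ, h2, map_add, map_mul, map_neg]
      linear_combination (algebraMap F L u) * hζ

/-- `ζ ^ m = 1` if `M ^ m = 1`. -/
theorem pow_eq_one (M : SL(2, F)) (hτ : tr M ^ 2 ≠ 4) {L : Type*} [Field L] [Algebra F L] {ζ : L}
    (hζ : ζ ^ 2 = algebraMap F L (tr M) * ζ - 1) {m : ℕ} (hm : M ^ m = 1) : ζ ^ m = 1 := by
  obtain ⟨u, w, h1, h2⟩ := exists_coeff M hζ m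
  have h0 : ((M ^ m : SL(2, F)) : Matrix (Fin 2) (Fin 2) F) = (M : Matrix (Fin 2) (Fin 2) F) ^ m :=
    Matrix.SpecialLinearGroup.coe_pow M m
  have h00 : ((1 : SL(2, F)) : Matrix (Fin 2) (Fin 2) F) = 1 := Matrix.SpecialLinearGroup.coe_one
  have h3 : (1 : Matrix (Fin 2) (Fin 2) F) = u • (M : Matrix (Fin 2) (Fin 2) F) + w • 1 := by
    rw [← h1, ← h0, hm, h00]
  have e00 := congrFun (congrFun h3 0) 0
  have e01 := congrFun (congrFun h3 0) 1
  have e10 := congrFun (congrFun h3 1) 0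
  have e11 := congrFun (congrFun h3 1) 1
  simp only [Matrix.add_apply, Matrix.smul_apply, smul_eq_mul, Fin.isValue, one_apply_eq, ne_eq, zero_ne_one,
    one_ne_zero, not_false_eq_true, one_apply_ne, mul_zero, mul_one, add_zero] at e00 e01 e10 e11
  have hu : u = 0 := by
    by_contra hu
    apply hτ
    have hdet := det_eq M
    have k1 : M 0 1 = 0 := by
      rcases mul_eq_zero.1 e01.symm with h | h
      · exact absurd h hu
      · exact h
    have k3 : M 0 0 = M 1 1 := by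
      apply mul_left_cancel₀ hu
      linear_combination e11 - e00
    simp only [tr]
    rw [k1] at hdet
    rw [k3] at hdet ⊢
    linear_combination 4 * hdet
  rw [hu, zero_mul, zero_add] at e00
  rw [h2, hu, ← e00, map_zero, map_one, zero_mul, zero_add]

/-- **A field automorphism fixing the trace.** -/
theorem eq_one_of_trace [Fintype F] {p a r k : ℕ} [Fact p.Prime] [CharP F p] (hF : Fintype.card F = p ^ (3 * a))
    (hr : H436.Prim p (6 * a) r) {M : SL(2, F)} (hτ : tr M ^ 2 ≠ 4) (hM : M ^ r ^ k = 1) {σ : F ≃+* F} {b : ℕ}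
    (hb : ∀ y, σ y = y ^ p ^ b) (hσ : σ (tr M) = tr M) : σ = 1 := by
  let L := AlgebraicClosure F
  obtain ⟨ζ, hζ0⟩ := IsAlgClosed.exists_root (k := L)
    (Polynomial.C (1 : L) * Polynomial.X ^ 2 + Polynomial.C (-algebraMap F L (tr M)) * Polynomial.X + Polynomial.C 1)
    (by rw [Polynomial.degree_quadratic one_ne_zero]; norm_num)
  have hζ : ζ ^ 2 = algebraMap F L (tr M) * ζ - 1 := by
    simp only [Polynomial.IsRoot.def, Polynomial.eval_add, Polynomial.eval_mul, Polynomial.eval_C,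
      Polynomial.eval_pow, Polynomial.eval_X] at hζ0
    linear_combination hζ0
  have h1 : ζ ^ r ^ k = 1 := pow_eq_one M hτ hζ hM
  have hz0 : ζ ≠ 0 := by
    rintro rfl
    rw [mul_zero] at hζ
    norm_num at hζ
  have hz1 : ζ ≠ 1 := by
    rintro rfl
    apply hτ
    have h2 : algebraMap F L (tr M) = 2 := by linear_combination -hζ
    have h3 : algebraMap F L (tr M) = algebraMap F L 2 := by rw [h2, map_ofNat]
    rw [(algebraMap F L).injective h3]
    norm_num
  have : CharP L p := charP_of_injective_algebraMap (algebraMap F L).injective p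
  have hfr : ∀ z w : L, (z * w - 1) ^ p ^ b = z ^ p ^ b * w ^ p ^ b - 1 := by
    intro z w
    rw [sub_pow_char_pow, mul_pow, one_pow]
  have hτb : (algebraMap F L (tr M)) ^ p ^ b = algebraMap F L (tr M) := by
    rw [← map_pow, ← hb, hσ]
  have h2 : (ζ ^ p ^ b) ^ 2 = algebraMap F L (tr M) * ζ ^ p ^ b - 1 := by
    rw [← pow_mul, mul_comm, pow_mul, hζ, hfr, hτb]
  have h3 : (ζ ^ p ^ b - ζ) * (ζ ^ p ^ b + ζ - algebraMap F L (tr M)) = 0 := by
    linear_combination h2 - hζ
  have h4 : (ζ ^ p ^ b) ^ p ^ b = ζ := by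
    rcases mul_eq_zero.1 h3 with h | h
    · rw [sub_eq_zero.1 h, sub_eq_zero.1 h]
    · have h5 : ζ ^ p ^ b = algebraMap F L (tr M) - ζ := by linear_combination h
      rw [h5, sub_pow_char_pow, hτb, h5]
      ring
  have h5 : ζ ^ p ^ (2 * b) = ζ := by
    rw [two_mul, pow_add, pow_mul, h4]
  have hp1 : 1 ≤ p ^ (2 * b) := Nat.one_le_pow _ _ (Fact.out : p.Prime).pos
  have h6 : ζ ^ (p ^ (2 * b) - 1) = 1 := by
    apply mul_right_cancel₀ hz0
    rw [← pow_succ, Nat.sub_add_cancel hp1, h5, one_mul]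
  obtain ⟨j, hj, hj'⟩ := (Nat.dvd_prime_pow hr.prime).1 (orderOf_dvd_of_pow_eq_one h1)
  have hj0 : j ≠ 0 := by
    rintro rfl
    rw [pow_zero] at hj'
    exact hz1 (orderOf_eq_one_iff.1 hj')
  have h7 : r ∣ p ^ (2 * b) - 1 := by
    have h8 := orderOf_dvd_of_pow_eq_one h6
    rw [hj'] at h8
    exact (dvd_pow_self r hj0).trans h8
  have h8 : 6 * a ∣ 2 * b := (hr.dvd_iff _).1 h7
  obtain ⟨c, hc⟩ := h8
  have h9 : b = 3 * a * c := by
    have : 2 * b = 2 * (3 * a * c) := by rw [hc]; ring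
    omega
  apply RingEquiv.ext
  intro y
  rw [hb, h9, pow_mul, ← hF]
  change _ = y
  clear hb hσ h1 h2 h3 h4 h5 h6 h7 hτb hfr hc h9 hp1
  induction c with
  | zero => rw [pow_zero, pow_one]
  | succ c ih => rw [pow_succ, pow_mul, ih, FiniteField.pow_card]

/-- `pr M ^ p = 1` if `(tr M)² = 4`. -/
theorem pow_of_trace {p : ℕ} [Fact p.Prime] [CharP F p] (M : SL(2, F)) (hτ : tr M ^ 2 = 4) : pr M ^ p = 1 := by
  obtain ⟨ε, hε, hε2⟩ : ∃ ε : F, tr M = 2 * ε ∧ ε ^ 2 = 1 := by
    by_cases h2 : (2 : F) = 0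
    · refine ⟨1, ?_, one_pow 2⟩
      have h4 : (4 : F) = 0 := by
        have : (4 : F) = 2 * 2 := by norm_num
        rw [this, h2, zero_mul]
      rw [h4] at hτ
      rw [pow_eq_zero_iff two_ne_zero |>.1 hτ, h2, zero_mul]
    · refine ⟨tr M / 2, by field_simp, ?_⟩
      rw [div_pow, hτ]
      have h4 : (4 : F) ≠ 0 := by
        have : (4 : F) = 2 * 2 := by norm_num
        rw [this]
        exact mul_ne_zero h2 h2
      have : (2 : F) ^ 2 = 4 := by norm_num
      rw [this, div_self h4]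
  have hCH := sq_eq M
  have hsq : ((M : Matrix (Fin 2) (Fin 2) F) - ε • 1) ^ 2 = 0 := by
    rw [pow_two, sub_mul, mul_sub, mul_sub, hCH, hε, smul_mul_assoc, one_mul, mul_smul_comm, mul_one,
      smul_mul_assoc, one_mul, smul_smul, ← pow_two, hε2]
    module
  have hp2 : 2 ≤ p := (Fact.out : p.Prime).two_le
  have : CharP (Matrix (Fin 2) (Fin 2) F) p := Matrix.charP p
  have hpow : ((M : Matrix (Fin 2) (Fin 2) F) - ε • 1) ^ p = 0 := by
    obtain ⟨c, rfl⟩ := Nat.exists_eq_add_of_le hp2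
    rw [pow_add, hsq, zero_mul]
  rw [sub_pow_char_of_commute p (by
    rw [Commute, SemiconjBy, mul_smul_comm, smul_mul_assoc, mul_one, one_mul]), smul_pow, one_pow, sub_eq_zero] at hpow
  rw [← map_pow, ← map_one pr]
  refine Cfsg.Agent.ClassicalGeometry.AutPSL.Root.pr_eq_of_smul (x := M ^ p) (y := 1) (c := (ε ^ p)⁻¹) ?_
  have h0 : ((M ^ p : SL(2, F)) : Matrix (Fin 2) (Fin 2) F) = (M : Matrix (Fin 2) (Fin 2) F) ^ p :=
    Matrix.SpecialLinearGroup.coe_pow M p
  have h00 : ((1 : SL(2, F)) : Matrix (Fin 2) (Fin 2) F) = 1 := Matrix.SpecialLinearGroup.coe_one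
  refine h00.trans ?_
  rw [h0, hpow, smul_smul, inv_mul_cancel₀, one_smul]
  apply pow_ne_zero
  rintro rfl
  norm_num at hε2

end power

end Cfsg.Agent.H118.O8S
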